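import Cfsg.Agent.H563.KG.Ncl
import Cfsg.Agent.H290.Wei.CharOne
import Cfsg.Agent.H154.Wei.Elt
import Cfsg.Agent.H56.Exc.BigTF4
import Cfsg.Agent.H381.SzSpec
import Cfsg.Agent.S1159

/-!
# S3938, `E₇(q)`, class 18, own characteristic (helper154)
-/

set_option autoImplicit false

namespace Cfsg.Agent.H154.Wei

open Cfsg Cfsg.Agent.OrdDiv Cfsg.Agent.H436
  Cfsg.Agent.H56.Exc Cfsg.Agent.H915.GN Cfsg.Agent.H264.FKS Cfsg.Agent.H563.KG
  Cfsg.Agent.H290.Wei Cfsg.Agent.H946.KZ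

section num

variable {q e u : ℕ}

theorem not_dvd_M (hq : 1 ≤ q) (h : Prim q e u) (he : ¬ e ∣ 2) (he18 : e ≠ 18) : ¬ u ∣ (q + 1) * Ph 18 q := by
  have hsq : q ^ 2 - 1 = (q + 1) * (q - 1) := by
    have := Nat.sq_sub_sq q 1
    rwa [one_pow] at this
  intro hd
  rcases h.prime.dvd_mul.1 hd with h1 | h1
  · apply he
    refine (h.dvd_iff 2).1 ?_
    rw [hsq]
    exact h1.mul_right _
  · rw [← ncl_mul 18 q] at h1
    rcases h.prime.dvd_mul.1 h1 with h2 | h2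
    · exact he18 (h.unique (prim_of_dvd (Or.inr (Or.inr (Or.inr (Or.inr (Or.inl rfl))))) hq h.prime h2))
    · have h3 : u ∣ 3 := h2.trans (Nat.gcd_dvd_left 3 _)
      have h4 : u = 3 := (Nat.prime_dvd_prime_iff_eq h.prime Nat.prime_three).1 h3
      subst h4
      apply he
      refine (h.dvd_iff 2).1 ?_
      rw [hsq]
      have h5 := h.not_dvd
      have h6 : q % 3 = 1 ∨ q % 3 = 2 := by omega
      rcases h6 with h6 | h6
      · exact Dvd.dvd.mul_left (by omega) _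
      · exact Dvd.dvd.mul_right (by omega) _

theorem pf_two {p f : ℕ} (hp : p.Prime) (h : p ^ f = 2) : p = 2 ∧ f = 1 := by
  have h1 : p ∣ 2 := by
    rw [← h]
    apply dvd_pow_self
    rintro rfl
    norm_num at h
  have h2 := (Nat.prime_dvd_prime_iff_eq hp Nat.prime_two).1 h1
  subst h2
  refine ⟨rfl, Nat.pow_right_injective le_rfl (show 2 ^ f = 2 ^ 1 from h)⟩

end num

variable {p f : ℕ} {S : Type} [Group S]

theorem M_two : (2 + 1) * Ph 18 2 = 171 := by decide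

/-- the case `q = 2`: elements of order 513 -/
theorem kill_513 {r : ℕ} (hr : Prim 2 18 r) (hb : Big S r ((2 + 1) * Ph 18 2) 18) (h : ∃ g : S, orderOf g = 513) :
    False := by
  have h1 : r ∣ 2 ^ 9 + 1 := prim_dvd_plus (j := 9) hr (by norm_num) (by norm_num)
  have h2 := dvd_of_big hb (N := 513) h1 (by norm_num) h
  rw [M_two] at h2
  exact absurd h2 (by decide)

theorem exists_r (hp : p.Prime) (hf : 1 ≤ f) {e : ℕ} (he : 3 ≤ e) (h6 : ¬ (p ^ f = 2 ∧ e = 6)) :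
    ∃ r, Prim (p ^ f) e r :=
  exists_prim (hp.two_le.trans (Nat.le_self_pow (by omega) p)) he h6

section kills

variable (hp : p.Prime) (hf : 1 ≤ f)
  (hb : ∀ r, Prim (p ^ f) 18 r → Big S r ((p ^ f + 1) * Ph 18 (p ^ f)) 18)

include hp hf hb

theorem kill_psl2 {f₁ : ℕ} (h1 : f₁ * 2 = f * 18) (h : IsNamed (.psl 2 (p ^ f₁)) S) : False := by
  have hq1 : 1 ≤ p ^ f := Nat.one_le_pow _ _ hp.pos
  obtain ⟨r, hr⟩ := exists_r hp hf (e := 18) (by norm_num) (by norm_num)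
  by_cases h2 : p ^ f = 2
  · obtain ⟨rfl, rfl⟩ := pf_two hp h2
    obtain rfl : f₁ = 9 := by omega
    rw [pow_one] at hr hb
    exact kill_513 hr (hb r hr) (elt_psl h (by norm_num) (by norm_num) (by norm_num))
  · obtain ⟨u, hu⟩ := exists_r hp hf (e := 6) (by norm_num) (fun h => h2 h.1)
    exact not_dvd_M hq1 hu (by norm_num) (by norm_num)
      (kill_psl hr hu (by norm_num) (hb r hr) h (j := 18) h1 (by norm_num) (by norm_num) (a := 1) (b := 9)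
        (by omega) (by norm_num) (by norm_num))

theorem kill_psl3 {f₁ : ℕ} (h1 : f₁ * 3 = f * 18) (h : IsNamed (.psl 3 (p ^ f₁)) S) : False := by
  have hq1 : 1 ≤ p ^ f := Nat.one_le_pow _ _ hp.pos
  obtain ⟨r, hr⟩ := exists_r hp hf (e := 18) (by norm_num) (by norm_num)
  obtain ⟨u, hu⟩ := exists_r hp hf (e := 9) (by norm_num) (by norm_num)
  exact not_dvd_M hq1 hu (by norm_num) (by norm_num)
    (kill_psl hr hu (by norm_num) (hb r hr) h (j := 18) h1 (by norm_num) (by norm_num) (a := 1) (b := 6)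
      (by omega) (by norm_num) (by norm_num))

theorem kill_psp2 {f₁ : ℕ} (h1 : f₁ * 4 = f * 18) (h : IsNamed (.psp 2 (p ^ f₁)) S) : False := by
  have hq1 : 1 ≤ p ^ f := Nat.one_le_pow _ _ hp.pos
  have h2 : p ^ f ≠ 2 := by
    intro h2
    obtain ⟨rfl, rfl⟩ := pf_two hp h2
    omega
  obtain ⟨r, hr⟩ := exists_r hp hf (e := 18) (by norm_num) (by norm_num)
  obtain ⟨u, hu⟩ := exists_r hp hf (e := 6) (by norm_num) (fun h => h2 h.1)
  exact not_dvd_M hq1 hu (by norm_num) (by norm_num)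
    (kill_psp hr hu (by norm_num) (by norm_num) (by norm_num) (hb r hr) h (by norm_num) (j := 9) (by omega)
      (by norm_num) (by norm_num) (by norm_num) (by norm_num))

theorem kill_psp3 {f₁ : ℕ} (h1 : f₁ * 6 = f * 18) (h : IsNamed (.psp 3 (p ^ f₁)) S) : False := by
  have hq1 : 1 ≤ p ^ f := Nat.one_le_pow _ _ hp.pos
  obtain ⟨r, hr⟩ := exists_r hp hf (e := 18) (by norm_num) (by norm_num)
  by_cases h2 : p ^ f = 2
  · obtain ⟨rfl, rfl⟩ := pf_two hp h2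
    obtain rfl : f₁ = 3 := by omega
    rw [pow_one] at hr hb
    exact kill_513 hr (hb r hr) (elt_psp h (by norm_num) (by decide) (by norm_num))
  · obtain ⟨u, hu⟩ := exists_r hp hf (e := 6) (by norm_num) (fun h => h2 h.1)
    exact not_dvd_M hq1 hu (by norm_num) (by norm_num)
      (kill_psp hr hu (by norm_num) (by norm_num) (by norm_num) (hb r hr) h (by norm_num) (j := 9) (by omega)
        (by norm_num) (by norm_num) (by norm_num) (by norm_num))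

theorem kill_oodd3 {f₁ : ℕ} (h1 : f₁ * 6 = f * 18) (h : IsNamed (.oodd 3 (p ^ f₁)) S) : False := by
  have hq1 : 1 ≤ p ^ f := Nat.one_le_pow _ _ hp.pos
  have h2 : p ^ f ≠ 2 := by
    intro h2
    obtain ⟨rfl, rfl⟩ := pf_two hp h2
    obtain rfl : f₁ = 3 := by omega
    have := h.cond.2.1
    exact absurd this (by decide)
  obtain ⟨r, hr⟩ := exists_r hp hf (e := 18) (by norm_num) (by norm_num)
  obtain ⟨u, hu⟩ := exists_r hp hf (e := 6) (by norm_num) (fun h => h2 h.1)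
  exact not_dvd_M hq1 hu (by norm_num) (by norm_num)
    (kill_oodd hr hu (by norm_num) (by norm_num) (by norm_num) (hb r hr) h (j := 9) (by omega)
      (by norm_num) (by norm_num) (by norm_num) (by norm_num))

theorem kill_psu4 {f₁ : ℕ} (h1 : f₁ * 6 = f * 18) (h : IsNamed (.psu 4 (p ^ f₁)) S) : False := by
  have hq1 : 1 ≤ p ^ f := Nat.one_le_pow _ _ hp.pos
  obtain ⟨r, hr⟩ := exists_r hp hf (e := 18) (by norm_num) (by norm_num)
  by_cases h2 : p ^ f = 2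
  · obtain ⟨rfl, rfl⟩ := pf_two hp h2
    obtain rfl : f₁ = 3 := by omega
    rw [pow_one] at hr hb
    exact kill_513 hr (hb r hr) (elt_psu4 h (by decide) (by norm_num))
  · obtain ⟨u, hu⟩ := exists_r hp hf (e := 6) (by norm_num) (fun h => h2 h.1)
    have h3 : (p ^ f₁) ^ 3 = (p ^ f) ^ 9 := by
      rw [← pow_mul, ← pow_mul]
      congr 1
      omega
    have h4 : r * u ∣ (p ^ f₁) ^ 3 + 1 := by
      rw [h3]
      exact mul_dvd hr hu (by norm_num) (prim_dvd_plus (j := 9) hr (by norm_num) (by norm_num))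
        (prim_dvd_plus (j := 9) hu (by norm_num) (by norm_num))
    have h5 : Odd (r * u) := (prim_odd hr (by norm_num)).mul (prim_odd hu (by norm_num))
    exact not_dvd_M hq1 hu (by norm_num) (by norm_num)
      ((dvd_mul_left u r).trans (dvd_of_big (hb r hr) (dvd_mul_right r u) h5.pos (elt_psu4 h h5 h4)))

theorem kill_psu9 {m : ℕ} (hm : 9 ≤ m) (h2 : p ^ f ≠ 2) (h : IsNamed (.psu m (p ^ f)) S) : False := by
  have hq1 : 1 ≤ p ^ f := Nat.one_le_pow _ _ hp.pos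
  obtain ⟨r, hr⟩ := exists_r hp hf (e := 18) (by norm_num) (by norm_num)
  obtain ⟨u, hu⟩ := exists_r hp hf (e := 6) (by norm_num) (fun h => h2 h.1)
  exact not_dvd_M hq1 hu (by norm_num) (by norm_num)
    (kill_psu hr hu (by norm_num) (hb r hr) h (k := 9) (by decide) hm (j := 9) rfl
      (by norm_num) (by norm_num) (by norm_num) (by norm_num) (a := 1) (b := 2) rfl (by norm_num) (by norm_num))

theorem kill_oplus4 {f₁ : ℕ} (h1 : f₁ * 6 = f * 18) (h : IsNamed (.oplus 4 (p ^ f₁)) S) : False := by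
  have hq1 : 1 ≤ p ^ f := Nat.one_le_pow _ _ hp.pos
  obtain ⟨r, hr⟩ := exists_r hp hf (e := 18) (by norm_num) (by norm_num)
  by_cases h2 : p ^ f = 2
  · obtain ⟨rfl, rfl⟩ := pf_two hp h2
    obtain rfl : f₁ = 3 := by omega
    rw [pow_one] at hr hb
    exact kill_513 hr (hb r hr) (elt_oplus h (by norm_num) (by decide) (by norm_num))
  · obtain ⟨u, hu⟩ := exists_r hp hf (e := 6) (by norm_num) (fun h => h2 h.1)
    exact not_dvd_M hq1 hu (by norm_num) (by norm_num)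
      (kill_oplus hr hu (by norm_num) (by norm_num) (by norm_num) (hb r hr) h (j := 9) (by omega)
        (by norm_num) (by norm_num) (by norm_num) (by norm_num))

end kills

section multiplicity

/-- the part of the order of `E₇(s ^ 2)` which is prime to the primes of class 9 over `s` -/
theorem not_dvd_X {s r : ℕ} (hr : Prim s 9 r) : ¬ r ∣ (s ^ 2) ^ 63 * (((s ^ 2) ^ 2 - 1) * ((s ^ 2) ^ 6 - 1) *
    ((s ^ 2) ^ 8 - 1) * ((s ^ 2) ^ 10 - 1) * ((s ^ 2) ^ 12 - 1) * ((s ^ 2) ^ 14 - 1)) := by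
  have hk : ∀ k, ¬ 9 ∣ 2 * k → ¬ r ∣ (s ^ 2) ^ k - 1 := by
    intro k hk h
    rw [← pow_mul] at h
    exact hk ((hr.dvd_iff _).1 h)
  intro h
  rcases hr.prime.dvd_mul.1 h with h | h
  · rw [← pow_mul] at h
    exact hr.not_dvd_pow _ h
  rcases hr.prime.dvd_mul.1 h with h | h
  · rcases hr.prime.dvd_mul.1 h with h | h
    · rcases hr.prime.dvd_mul.1 h with h | h
      · rcases hr.prime.dvd_mul.1 h with h | h
        · rcases hr.prime.dvd_mul.1 h with h | h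
          · exact hk 2 (by norm_num) h
          · exact hk 6 (by norm_num) h
        · exact hk 8 (by norm_num) h
      · exact hk 10 (by norm_num) h
    · exact hk 12 (by norm_num) h
  · exact hk 14 (by norm_num) h

theorem num_e7_eq (q : ℕ) : num (.e7 q) = q ^ 63 * ((q ^ 2 - 1) * (q ^ 6 - 1) * (q ^ 8 - 1) * (q ^ 10 - 1) *
    (q ^ 12 - 1) * (q ^ 14 - 1)) * (q ^ 18 - 1) := by
  show q ^ 63 * ((q ^ 2 - 1) * (q ^ 6 - 1) * (q ^ 8 - 1) * (q ^ 10 - 1) * (q ^ 12 - 1) *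
    (q ^ 14 - 1) * (q ^ 18 - 1)) = _
  ring

theorem kill_f4 {S : Type} [Group S] {p f f₁ : ℕ} (hp : p.Prime) (hf : 1 ≤ f) (h1 : f₁ * 12 = f * 18)
    (h : IsNamed (.f4 (p ^ f₁)) S) (hd : Nat.card S ∣ num (.e7 (p ^ f))) : False := by
  obtain ⟨g, rfl⟩ : ∃ g, f = g * 2 := ⟨f / 2, by omega⟩
  obtain rfl : f₁ = g * 3 := by omega
  obtain ⟨s, hs⟩ : ∃ s, s = p ^ g := ⟨_, rfl⟩
  have hs2 : 2 ≤ s := by
    rw [hs]
    exact hp.two_le.trans (Nat.le_self_pow (by omega) p)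
  rw [pow_mul, ← hs] at h hd
  obtain ⟨r, hr⟩ := exists_prim hs2 (show 3 ≤ 9 by norm_num) (by norm_num)
  have h2 : Nat.card S = (s ^ 3) ^ 24 * (((s ^ 3) ^ 2 - 1) * ((s ^ 3) ^ 6 - 1) * ((s ^ 3) ^ 8 - 1) *
      ((s ^ 3) ^ 12 - 1)) := by
    have := h.eq
    change 1 * Nat.card S = _ at this
    rw [one_mul] at this
    exact this
  rw [h2, num_e7_eq] at hd
  have h3 : (s ^ 3) ^ 12 = (s ^ 2) ^ 18 := by rw [← pow_mul, ← pow_mul]
  rw [h3] at hd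
  have h4 : 0 < (s ^ 2) ^ 18 - 1 := by
    have : 1 < (s ^ 2) ^ 18 := Nat.one_lt_pow (by norm_num) (Nat.one_lt_pow (by norm_num) (by omega))
    omega
  have h5 : (s ^ 3) ^ 6 - 1 ∣ (s ^ 2) ^ 63 * (((s ^ 2) ^ 2 - 1) * ((s ^ 2) ^ 6 - 1) *
      ((s ^ 2) ^ 8 - 1) * ((s ^ 2) ^ 10 - 1) * ((s ^ 2) ^ 12 - 1) * ((s ^ 2) ^ 14 - 1)) := by
    refine Nat.dvd_of_mul_dvd_mul_right h4 (Dvd.dvd.trans ?_ hd)
    refine Dvd.dvd.mul_left ?_ _
    refine Nat.mul_dvd_mul ?_ dvd_rfl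
    exact Dvd.dvd.mul_right (dvd_mul_left _ _) _
  refine not_dvd_X hr (Dvd.dvd.trans ?_ h5)
  rw [← pow_mul]
  exact (hr.dvd_iff _).2 (by norm_num)

theorem kill_td4 {S : Type} [Group S] {p f f₁ : ℕ} (hp : p.Prime) (hf : 1 ≤ f) (h1 : f₁ * 12 = f * 18)
    (h : IsNamed (.td4 (p ^ f₁)) S) (hd : Nat.card S ∣ num (.e7 (p ^ f))) : False := by
  obtain ⟨g, rfl⟩ : ∃ g, f = g * 2 := ⟨f / 2, by omega⟩
  obtain rfl : f₁ = g * 3 := by omega
  obtain ⟨s, hs⟩ : ∃ s, s = p ^ g := ⟨_, rfl⟩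
  have hs2 : 2 ≤ s := by
    rw [hs]
    exact hp.two_le.trans (Nat.le_self_pow (by omega) p)
  rw [pow_mul, ← hs] at h hd
  obtain ⟨r, hr⟩ := exists_prim hs2 (show 3 ≤ 9 by norm_num) (by norm_num)
  have h2 : Nat.card S = (s ^ 3) ^ 12 * (((s ^ 3) ^ 2 - 1) * ((s ^ 3) ^ 6 - 1) * ((s ^ 3) ^ 8 + (s ^ 3) ^ 4 + 1)) := by
    have := h.eq
    change 1 * Nat.card S = _ at this
    rw [one_mul] at this
    exact this
  rw [h2, num_e7_eq] at hd
  have h3 : (s ^ 2) ^ 18 - 1 = ((s ^ 3) ^ 4 - 1) * ((s ^ 3) ^ 8 + (s ^ 3) ^ 4 + 1) := by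
    have h6 : 1 ≤ (s ^ 3) ^ 4 := Nat.one_le_pow _ _ (Nat.one_le_pow _ _ (by omega))
    have h7 : 1 ≤ (s ^ 2) ^ 18 := Nat.one_le_pow _ _ (Nat.one_le_pow _ _ (by omega))
    have h8 : (((s ^ 2) ^ 18 - 1 : ℕ) : ℤ) = ((((s ^ 3) ^ 4 - 1) * ((s ^ 3) ^ 8 + (s ^ 3) ^ 4 + 1) : ℕ) : ℤ) := by
      rw [Nat.cast_mul, Nat.cast_sub h6, Nat.cast_sub h7]
      push_cast
      ring
    exact_mod_cast h8
  have h4 : 0 < (s ^ 3) ^ 8 + (s ^ 3) ^ 4 + 1 := Nat.succ_pos _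
  have h5 : (s ^ 3) ^ 6 - 1 ∣ (s ^ 2) ^ 63 * (((s ^ 2) ^ 2 - 1) * ((s ^ 2) ^ 6 - 1) *
      ((s ^ 2) ^ 8 - 1) * ((s ^ 2) ^ 10 - 1) * ((s ^ 2) ^ 12 - 1) * ((s ^ 2) ^ 14 - 1)) * ((s ^ 3) ^ 4 - 1) := by
    refine Nat.dvd_of_mul_dvd_mul_right h4 (Dvd.dvd.trans ?_ (hd.trans (by rw [h3, ← mul_assoc])))
    refine Dvd.dvd.mul_left ?_ _
    refine Nat.mul_dvd_mul ?_ dvd_rfl
    exact dvd_mul_left _ _
  have h9 : r ∣ (s ^ 3) ^ 6 - 1 := by
    rw [← pow_mul]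
    exact (hr.dvd_iff _).2 (by norm_num)
  rcases hr.prime.dvd_mul.1 (h9.trans h5) with h10 | h10
  · exact not_dvd_X hr h10
  · rw [← pow_mul] at h10
    exact absurd ((hr.dvd_iff _).1 h10) (by norm_num)

end multiplicity

theorem kill_psu10 {S : Type} [Group S] (h : IsNamed (.psu 10 2) S) (hd : Nat.card S ∣ num (.e7 2)) : False := by
  have h1 := h.eq
  have h2 : den (.psu 10 2) = 3 := by decide +kernel
  rw [h2] at h1
  have h3 : num (.psu 10 2) ∣ 3 * num (.e7 2) := by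
    rw [← h1]
    exact Nat.mul_dvd_mul_left 3 hd
  revert h3
  decide +kernel

/-! ### the twisted groups of rank one and two -/

section twisted

variable {S : Type} [Group S]

theorem ph_le {q N : ℕ} (h : N = ncl 18 q) : Ph 18 q ≤ N * 3 := by
  rw [h]
  exact Ph_le 18 q (by decide)

theorem prime_eq {p k f₁ n : ℕ} (hp : p.Prime) (hk : k.Prime) (hn : n ≠ 0) (h : p ^ f₁ = k ^ n) : p = k ∧ f₁ = n := by
  have h1 : k ∣ p ^ f₁ := by
    rw [h]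
    exact dvd_pow_self k hn
  have h2 := (Nat.prime_dvd_prime_iff_eq hk hp).1 (hk.dvd_of_dvd_pow h1)
  subst h2
  exact ⟨rfl, Nat.pow_right_injective hp.two_le h⟩

theorem kill_sz {p f f₁ : ℕ} (hp : p.Prime) (hf : 1 ≤ f) (h1 : f₁ * 4 = f * 18) (h : IsNamed (.sz (p ^ f₁)) S)
    (hy : ∃ y : S, orderOf y = ncl 18 (p ^ f)) : False := by
  obtain ⟨F, _, _, m, hm, hF, hQ, ⟨e⟩⟩ := h.real
  obtain ⟨y, hy⟩ := hy
  obtain ⟨rfl, hfm⟩ := prime_eq hp Nat.prime_two (by omega) hQ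
  obtain ⟨g, rfl⟩ : ∃ g, f = g * 2 := ⟨f / 2, by omega⟩
  obtain rfl : f₁ = g * 9 := by omega
  have h2 : Ph 18 (2 ^ (g * 2)) ≤ orderOf y * 3 := ph_le hy
  have h3 : orderOf y ≤ 2 ^ (g * 9) * 2 := by
    rw [← MulEquiv.orderOf_eq e y]
    have e1 : 2 ^ (2 * m + 1) = 2 * (2 ^ m * 2 ^ m) := by ring
    have e2 : 2 ^ (m + 1) = 2 * 2 ^ m := by ring
    have e3 : 2 ≤ 2 ^ m := Nat.le_self_pow (by omega) 2
    have e4 : 2 * 2 ^ m ≤ 2 ^ m * 2 ^ m := Nat.mul_le_mul_right _ e3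
    rw [hQ]
    rcases Cfsg.Agent.H381.SzSpec.spec hm (hF.trans hQ) (e y) with h4 | ⟨n, hn, h4⟩
    · have := Nat.le_of_dvd (by norm_num) h4
      omega
    · rcases (Cfsg.Agent.H98.SzPartition.mem_torusOrders_iff m n).1 hn with rfl | rfl | rfl
      · have := Nat.le_of_dvd (by omega) h4
        omega
      · have := Nat.le_of_dvd (by omega) h4
        omega
      · have := Nat.le_of_dvd (by omega) h4
        omega
  obtain ⟨s, hs⟩ : ∃ s, s = 2 ^ g := ⟨_, rfl⟩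
  have hs2 : 2 ≤ s := by
    rw [hs]
    exact Nat.le_self_pow (by omega) 2
  have h5 : 2 ^ (g * 2) = s ^ 2 := by rw [hs, ← pow_mul]
  have h6 : 2 ^ (g * 9) = s ^ 9 := by rw [hs, ← pow_mul]
  rw [h5, Ph18_eq (Nat.one_le_pow _ _ (by omega))] at h2
  rw [h6] at h3
  have h7 : (s ^ 2) ^ 3 = s ^ 6 := by rw [← pow_mul]
  rw [h7] at h2
  have h8 : s ^ 9 = s ^ 6 * s ^ 3 := by rw [← pow_add]
  have h9 : 8 ≤ s ^ 3 := Nat.pow_le_pow_left hs2 3
  have h10 : s ^ 6 = s ^ 3 * s ^ 3 := by rw [← pow_add]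
  have h11 : 0 < s ^ 6 := Nat.pow_pos (by omega)
  have h12 : s ^ 6 * (s ^ 6 - 1) < s ^ 6 * (6 * s ^ 3) := by
    calc s ^ 6 * (s ^ 6 - 1) < Ph 18 (s ^ 2) := by
          rw [Ph18_eq (Nat.one_le_pow _ _ (by omega)), h7]; omega
      _ ≤ orderOf y * 3 := by rw [Ph18_eq (Nat.one_le_pow _ _ (by omega)), h7]; exact h2
      _ ≤ s ^ 9 * 2 * 3 := Nat.mul_le_mul_right _ h3
      _ = s ^ 6 * (6 * s ^ 3) := by rw [h8]; ring
  have h13 := Nat.lt_of_mul_lt_mul_left h12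
  have h14 : 8 * s ^ 3 ≤ s ^ 6 := by
    rw [h10]
    exact Nat.mul_le_mul_right _ h9
  omega

theorem kill_ree {p f f₁ : ℕ} (hp : p.Prime) (hf : 1 ≤ f) (h1 : f₁ * 6 = f * 18) (h : IsNamed (.ree (p ^ f₁)) S)
    (hy : ∃ y : S, orderOf y = ncl 18 (p ^ f)) : False := by
  obtain ⟨F, _, _, m, hm, hF, hQ, ⟨e⟩⟩ := h.real
  obtain ⟨y, hy⟩ := hy
  obtain ⟨rfl, hfm⟩ := prime_eq hp Nat.prime_three (by omega) hQ
  obtain rfl : f₁ = f * 3 := by omega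
  have h2 : Ph 18 (3 ^ f) ≤ orderOf y * 3 := ph_le hy
  have h3 : orderOf y ≤ 3 ^ (f * 3) * 2 := by
    rw [← MulEquiv.orderOf_eq e y]
    have e1 : 3 ^ (2 * m + 1) = 3 * (3 ^ m * 3 ^ m) := by ring
    have e2 : 3 ^ (m + 1) = 3 * 3 ^ m := by ring
    have e3 : 3 ≤ 3 ^ m := Nat.le_self_pow (by omega) 3
    have e4 : 3 * 3 ^ m ≤ 3 ^ m * 3 ^ m := Nat.mul_le_mul_right _ e3
    rw [hQ]
    rcases (Cfsg.Agent.S1159.result hm (hF.trans hQ) (orderOf (e y))).1 ⟨e y, rfl⟩ with h4 | h4 | h4 | h4 | h4 | h4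
    · have := Nat.le_of_dvd (by norm_num) h4
      omega
    · have := Nat.le_of_dvd (by norm_num) h4
      omega
    · have := Nat.le_of_dvd (by omega) h4
      omega
    · have := Nat.le_of_dvd (by omega) h4
      omega
    · have := Nat.le_of_dvd (by omega) h4
      omega
    · have := Nat.le_of_dvd (by omega) h4
      omega
  have hq3 : 1 ≤ 3 ^ f := Nat.one_le_pow _ _ (by norm_num)
  rw [Ph18_eq hq3, ← pow_mul] at h2
  have h4 : 27 ≤ 3 ^ (f * 3) := by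
    calc 27 = 3 ^ (1 * 3) := by norm_num
      _ ≤ 3 ^ (f * 3) := Nat.pow_le_pow_right (by norm_num) (Nat.mul_le_mul_right _ hf)
  generalize 3 ^ (f * 3) = Q at h2 h3 h4
  have h5 : Q * (Q - 1) < Q * 6 := by
    calc Q * (Q - 1) < orderOf y * 3 := h2
      _ ≤ Q * 2 * 3 := Nat.mul_le_mul_right _ h3
      _ = Q * 6 := by ring
  have h6 := Nat.lt_of_mul_lt_mul_left h5
  omega

theorem kill_tf4 {p f f₁ : ℕ} (hp : p.Prime) (hf : 1 ≤ f) (h1 : f₁ * 12 = f * 18) (h : IsNamed (.tf4 (p ^ f₁)) S)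
    (hy : ∃ y : S, orderOf y = ncl 18 (p ^ f)) : False := by
  obtain ⟨F, _, _, m, hm, hF, hQ, ⟨e⟩⟩ := h.real
  obtain ⟨y, hy⟩ := hy
  obtain ⟨rfl, hfm⟩ := prime_eq hp Nat.prime_two (by omega) hQ
  obtain ⟨g, rfl⟩ : ∃ g, f = g * 2 := ⟨f / 2, by omega⟩
  obtain rfl : f₁ = g * 3 := by omega
  have hx : 2 ≤ 2 ^ m := Nat.le_self_pow (by omega) 2
  have hF' := hF.trans hQ
  have hy' : ∃ y : ↥(Cfsg.Lie.twistedF4 F (2 ^ m)), orderOf y = ncl 18 (2 ^ (g * 2)) :=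
    ⟨e y, (MulEquiv.orderOf_eq e y).trans hy⟩
  have hq1 : 1 ≤ 2 ^ (g * 2) := Nat.one_le_pow _ _ (by norm_num)
  have hPh : (Ph 18 (2 ^ (g * 2)) : ℤ) = mP (2 ^ m) * mM (2 ^ m) := by
    rw [mP_mul_mM hx]
    have h2 := cast_Ph18 (q := 2 ^ (g * 2)) ℤ hq1
    rw [h2]
    have h3 : (((2 ^ (g * 2) : ℕ)) : ℤ) ^ 3 = (2 * (((2 ^ m : ℕ)) : ℤ) ^ 2) ^ 2 := by
      have h4 : (2 ^ (g * 2)) ^ 3 = (2 * (2 ^ m) ^ 2) ^ 2 := by
        rw [q_TF, ← hfm, ← pow_mul, ← pow_mul]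
        congr 1
        ring
      exact_mod_cast h4
    have h5 : (((2 ^ (g * 2) : ℕ)) : ℤ) ^ 6 = ((((2 ^ (g * 2) : ℕ)) : ℤ) ^ 3) ^ 2 := by rw [← pow_mul]
    rw [h5, h3]
    ring
  have hPh' : Ph 18 (2 ^ (g * 2)) = mP (2 ^ m) * mM (2 ^ m) := by exact_mod_cast hPh
  have key : ∀ r : ℕ, r.Prime → Prim (2 * (2 ^ m) ^ 2) 12 r → r ∣ mP (2 ^ m) * mM (2 ^ m) →
      r ∣ ncl 18 (2 ^ (g * 2)) := by
    intro r hr hpr hd
    rw [← hPh', ← ncl_mul 18 (2 ^ (g * 2))] at hd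
    rcases hr.dvd_mul.1 hd with h2 | h2
    · exact h2
    · exfalso
      have h3 : r ∣ 3 := h2.trans (Nat.gcd_dvd_left 3 _)
      have h4 := Nat.le_of_dvd (by norm_num) h3
      have h5 := prim_lt hpr (by norm_num)
      omega
  have hP1 : mP (2 ^ m) ≠ 1 := by
    unfold mP
    omega
  have hM1 : mM (2 ^ m) ≠ 1 := by
    intro h2
    have h3 := cast_mM hx
    rw [h2] at h3
    obtain ⟨t, ht⟩ := Nat.exists_eq_add_of_le hx
    rw [ht] at h3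
    push_cast at h3
    have e : 1 - 2 * (2 + (t : ℤ)) + 2 * (2 + (t : ℤ)) ^ 2 - 4 * (2 + (t : ℤ)) ^ 3 + 4 * (2 + (t : ℤ)) ^ 4 =
      1 + (36 + 86 * t + 74 * t ^ 2 + 28 * t ^ 3 + 4 * t ^ 4) := by ring
    rw [e] at h3
    have : (0 : ℤ) < 36 + 86 * t + 74 * t ^ 2 + 28 * t ^ 3 + 4 * t ^ 4 := by positivity
    omega
  obtain ⟨r, hr, hrP⟩ := Nat.exists_prime_and_dvd hP1
  obtain ⟨r', hr', hrM⟩ := Nat.exists_prime_and_dvd hM1
  have h2 := dvd_of_big (big_TF4_plus hF' hm hr hrP) (key r hr (prim_of_mP hm hr hrP) (hrP.mul_right _))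
    (ncl_pos 18 hq1) hy'
  have h3 := dvd_of_big (big_TF4_minus hF' hm hr' hrM) (key r' hr' (prim_of_mM hm hr' hrM) (hrM.mul_left _))
    (ncl_pos 18 hq1) hy'
  exact not_dvd_both hm hr hrP ((key r hr (prim_of_mP hm hr hrP) (hrP.mul_right _)).trans h3)

end twisted

/-- **(N1) own characteristic.** -/
theorem names_e7_18 {p f : ℕ} (hp : p.Prime) (hf : 1 ≤ f) {S : Type} [Group S] [Finite S] {g : Grp}
    (hg : IsNamed g S) (hch : HasChar p g) (hd : Nat.card S ∣ num (.e7 (p ^ f))) (hn : ncl 18 (p ^ f) ∣ Nat.card S)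
    (hb : ∀ r, Prim (p ^ f) 18 r → Big S r ((p ^ f + 1) * Ph 18 (p ^ f)) 18)
    (hy : ∃ y : S, orderOf y = ncl 18 (p ^ f)) :
    g = .psu 3 ((p ^ f) ^ 3) ∨ g = .g2 ((p ^ f) ^ 3) ∨ g = .te6 (p ^ f) ∨ g = .e7 (p ^ f) ∨
      (p ^ f = 2 ∧ g = .psu 9 2) := by
  have hq1 : 1 ≤ p ^ f := Nat.one_le_pow _ _ hp.pos
  have hz : ZT p f 18 (Nat.card S) := fun s hs =>
    (dvd_ncl (Or.inr (Or.inr (Or.inr (Or.inr (Or.inl rfl))))) hq1 (Cfsg.Agent.H264.GN.prim_pow hf hs)).trans hn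
  obtain ⟨f₁, hf₁, h⟩ := charp_e7_18 hp hf hg.cond hch hg.eq hd hz
  have e3 : f₁ * 6 = f * 18 → p ^ f₁ = (p ^ f) ^ 3 := by
    intro h
    obtain rfl : f₁ = f * 3 := by omega
    rw [pow_mul]
  have e1 : f₁ * 18 = f * 18 → f₁ = f := fun h => by omega
  rcases h with ⟨h, rfl⟩ | ⟨h, rfl⟩ | ⟨h, rfl⟩ | ⟨h, rfl⟩ | ⟨h, rfl⟩ | ⟨h, rfl⟩ | ⟨h, rfl⟩ | ⟨h, rfl⟩ | ⟨h, rfl⟩ | ⟨h, rfl⟩ |
    ⟨h, rfl⟩ | ⟨h, rfl⟩ | ⟨h, rfl⟩ | ⟨h, rfl⟩ | ⟨h, rfl⟩ | ⟨h, rfl⟩ | ⟨h, rfl⟩ | ⟨h, rfl⟩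
  · exact (kill_psl2 hp hf hb h hg).elim
  · exact (kill_psl3 hp hf hb h hg).elim
  · exact (kill_psp2 hp hf hb h hg).elim
  · exact (kill_psp3 hp hf hb h hg).elim
  · exact (kill_oodd3 hp hf hb h hg).elim
  · rw [e3 h]
    exact Or.inl rfl
  · exact (kill_psu4 hp hf hb h hg).elim
  · obtain rfl := e1 h
    by_cases h2 : p ^ f₁ = 2
    · rw [h2]
      exact Or.inr (Or.inr (Or.inr (Or.inr ⟨rfl, rfl⟩)))
    · exact (kill_psu9 hp hf hb le_rfl h2 hg).elim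
  · obtain rfl := e1 h
    by_cases h2 : p ^ f₁ = 2
    · rw [h2] at hg hd
      exact (kill_psu10 hg hd).elim
    · exact (kill_psu9 hp hf hb (by norm_num) h2 hg).elim
  · exact (kill_oplus4 hp hf hb h hg).elim
  · rw [e3 h]
    exact Or.inr (Or.inl rfl)
  · exact (kill_f4 hp hf h hg hd).elim
  · obtain rfl := e1 h
    exact Or.inr (Or.inr (Or.inr (Or.inl rfl)))
  · obtain rfl := e1 h
    exact Or.inr (Or.inr (Or.inl rfl))
  · exact (kill_td4 hp hf h hg hd).elim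
  · exact (kill_sz hp hf h hg hy).elim
  · exact (kill_ree hp hf h hg hy).elim
  · exact (kill_tf4 hp hf h hg hy).elim

end Cfsg.Agent.H154.Wei
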